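import Mathlib

/-!
Arithmetic for the largest element order in projective unitary groups: the factors
`((-q)^l - 1) / (q + 1)` and the inequalities for the possible shapes of the eigenvalue multiset.
-/

set_option autoImplicit false

namespace Cfsg.Agent.Classical.PGUOrder

/-- `|(-q)^l - 1|`. -/
def tor (q l : ℕ) : ℕ := if Even l then q ^ l - 1 else q ^ l + 1

/-- `|(-q)^l - 1| / (q + 1)`. -/
def fac (q l : ℕ) : ℕ := tor q l / (q + 1)

/-- The claimed largest order. -/
def tgt (p f q d : ℕ) : ℕ :=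
  if Odd d then (if f = 1 then (p ^ (d - 2) + 1) * p else q ^ (d - 1) - 1)
  else (if q = 2 then 4 * (2 ^ (d - 3) + 1) else q ^ (d - 1) + 1)

theorem succ_dvd_tor (q l : ℕ) : q + 1 ∣ tor q l := by
  unfold tor
  split_ifs with h
  · obtain ⟨i, rfl⟩ := h
    have h1 : q + 1 ∣ q ^ 2 - 1 := ⟨q - 1, by rw [← Nat.sq_sub_sq, one_pow]⟩
    have h2 : q ^ 2 - 1 ∣ (q ^ 2) ^ i - 1 ^ i := Nat.sub_dvd_pow_sub_pow _ _ _
    rw [one_pow, ← pow_mul, two_mul] at h2
    exact h1.trans h2
  · have := (Nat.not_even_iff_odd.1 h).nat_add_dvd_pow_add_pow q 1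
    simpa using this

theorem fac_mul (q l : ℕ) : (q + 1) * fac q l = tor q l := Nat.mul_div_cancel' (succ_dvd_tor q l)

theorem tor_le (q l : ℕ) : tor q l ≤ q ^ l + 1 := by
  unfold tor; split_ifs <;> omega

theorem fac_one (q : ℕ) : fac q 1 = 1 := by simp [fac, tor]

theorem fac_lt {q : ℕ} (hq : 2 ≤ q) {l : ℕ} (hl : 2 ≤ l) : fac q l < q ^ (l - 1) := by
  have h1 := fac_mul q l
  have h2 := tor_le q l
  obtain ⟨i, rfl⟩ : ∃ i, l = i + 1 := ⟨l - 1, by omega⟩
  rw [Nat.add_sub_cancel]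
  have h3 : q ≤ q ^ i := Nat.le_self_pow (by omega) q
  rw [pow_succ] at h2
  by_contra hc
  nlinarith [Nat.mul_le_mul_left (q + 1) (not_lt.1 hc)]

theorem fac_le {q : ℕ} (hq : 2 ≤ q) {l : ℕ} (hl : 1 ≤ l) : fac q l ≤ q ^ (l - 1) := by
  rcases (by omega : l = 1 ∨ 2 ≤ l) with rfl | h
  · simp [fac_one]
  · exact (fac_lt hq h).le

theorem fac_pos {q : ℕ} (hq : 2 ≤ q) {l : ℕ} (hl : 1 ≤ l) : 0 < fac q l := by
  have h1 := fac_mul q l
  have : 0 < tor q l := by
    unfold tor
    split_ifs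
    · have : q ≤ q ^ l := Nat.le_self_pow (by omega) q
      omega
    · omega
  rcases Nat.eq_zero_or_pos (fac q l) with h | h
  · rw [h, mul_zero] at h1; omega
  · exact h

variable {p f q d : ℕ}

theorem base_le_tgt (hp : p.Prime) (hq : q = p ^ f) (hd : 3 ≤ d) : q ^ (d - 1) - 1 ≤ tgt p f q d := by
  unfold tgt
  split_ifs with h1 h2 h3
  · subst h2
    rw [pow_one] at hq
    subst hq
    rw [add_mul, ← pow_succ, show d - 2 + 1 = d - 1 by omega]
    omega
  · exact le_rfl
  · subst h3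
    obtain ⟨i, rfl⟩ : ∃ i, d = i + 3 := ⟨d - 3, by omega⟩
    simp only [show i + 3 - 1 = i + 2 by omega, Nat.add_sub_cancel, pow_succ]
    omega
  · omega

theorem pow_clog_le (hp : p.Prime) {M : ℕ} (hM : 2 ≤ M) : p ^ Nat.clog p M ≤ p * (M - 1) := by
  have h := Nat.pow_pred_clog_lt_self hp.one_lt (by omega : 1 < M)
  have hc : 0 < Nat.clog p M := Nat.clog_pos hp.one_lt (by omega)
  obtain ⟨c, hc'⟩ := Nat.exists_eq_add_of_le hc
  rw [hc', Nat.pred_eq_sub_one, show Nat.succ 0 + c - 1 = c by omega] at h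
  rw [hc', add_comm, pow_succ']
  exact Nat.mul_le_mul_left _ (by omega)

theorem le_two_pow_pred (e : ℕ) : e ≤ 2 ^ (e - 1) := by
  have := Nat.lt_two_pow_self (n := e - 1)
  omega

theorem sq_add_le (hq : 2 ≤ q) {e : ℕ} (he : 1 ≤ e) : (q + 1) * e < q ^ (e + 1) := by
  have h1 : e ≤ q ^ (e - 1) := (le_two_pow_pred e).trans (Nat.pow_le_pow_left hq _)
  have h2 : q ^ (e + 1) = q ^ 2 * q ^ (e - 1) := by rw [← pow_add]; congr 1; omega
  rw [h2]
  have h3 : q + 1 < q ^ 2 := by nlinarith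
  calc (q + 1) * e ≤ (q + 1) * q ^ (e - 1) := Nat.mul_le_mul_left _ h1
    _ < q ^ 2 * q ^ (e - 1) := Nat.mul_lt_mul_of_pos_right h3 (by positivity)

/-- One orbit. -/
theorem one_orbit (hp : p.Prime) (hf : 1 ≤ f) (hq : q = p ^ f) (hd : 3 ≤ d) (h32 : ¬ (d = 3 ∧ q = 2))
    {l m : ℕ} (hl : 1 ≤ l) (hm : 1 ≤ m) (hlm : l * m = d) :
    fac q l * p ^ Nat.clog p m ≤ tgt p f q d := by
  refine le_trans ?_ (base_le_tgt hp hq hd)
  have hpq : p ≤ q := by rw [hq]; exact Nat.le_self_pow (by omega) p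
  have hq2 : 2 ≤ q := hp.two_le.trans hpq
  refine Nat.le_sub_one_of_lt ?_
  rcases (by omega : m = 1 ∨ 2 ≤ m) with rfl | hm2
  · rw [mul_one] at hlm
    subst hlm
    simpa using fac_lt hq2 (by omega)
  obtain ⟨e, rfl⟩ : ∃ e, m = e + 1 := ⟨m - 1, by omega⟩
  obtain ⟨i, rfl⟩ : ∃ i, l = i + 1 := ⟨l - 1, by omega⟩
  have hcl := pow_clog_le hp hm2
  rw [Nat.add_sub_cancel] at hcl
  have h1 : fac q (i + 1) * p ^ Nat.clog p (e + 1) ≤ q ^ i * (q * e) := by
    refine Nat.mul_le_mul ?_ (hcl.trans (Nat.mul_le_mul_right _ hpq))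
    simpa using fac_le hq2 hl
  refine lt_of_le_of_lt h1 ?_
  have hd1 : d - 1 = i + 1 + ((i + 1) * e - 1) := by
    have : (i + 1) * (e + 1) = (i + 1) * e + (i + 1) := by ring
    have : 1 ≤ (i + 1) * e := Nat.one_le_iff_ne_zero.2 (Nat.mul_ne_zero (by omega) (by omega))
    omega
  rw [hd1, pow_add, pow_succ q i, mul_assoc]
  refine Nat.mul_lt_mul_of_pos_left (Nat.mul_lt_mul_of_pos_left ?_ (by omega)) (by positivity)
  rcases (by omega : i = 0 ∨ 1 ≤ i) with rfl | hi
  · rw [zero_add, one_mul] at hd1 hlm ⊢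
    rcases (by omega : e = 2 ∨ 3 ≤ e) with rfl | he
    · have : q ≠ 2 := fun h => h32 ⟨by omega, h⟩
      rw [show (2 : ℕ) - 1 = 1 from rfl, pow_one]
      omega
    · refine lt_of_lt_of_le ?_ (Nat.pow_le_pow_left hq2 _)
      clear hd1 hlm hcl h1 hm hm2
      induction e, he using Nat.le_induction with
      | base => norm_num
      | succ e he ih =>
        rw [show e + 1 - 1 = e - 1 + 1 by omega, pow_succ]
        have : 1 ≤ 2 ^ (e - 1) := Nat.one_le_two_pow
        omega
  · refine lt_of_lt_of_le ?_ (Nat.pow_le_pow_left hq2 _)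
    have : e ≤ (i + 1) * e - 1 := by
      have : 2 * e ≤ (i + 1) * e := Nat.mul_le_mul_right _ (by omega)
      omega
    exact lt_of_lt_of_le Nat.lt_two_pow_self (Nat.pow_le_pow_right (by omega) this)

/-- At least three orbits: a crude product bound. -/
theorem three_orbits (hp : p.Prime) (hf : 1 ≤ f) (hq : q = p ^ f) (hd : 3 ≤ d)
    {W D M : ℕ} (hM : 1 ≤ M) (hW : W ≤ q ^ D) (hD : D + 3 + (M - 1) ≤ d) :
    (q + 1) * W * p ^ Nat.clog p M ≤ tgt p f q d := by
  refine le_trans ?_ (base_le_tgt hp hq hd)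
  have hpq : p ≤ q := by rw [hq]; exact Nat.le_self_pow (by omega) p
  have hq2 : 2 ≤ q := hp.two_le.trans hpq
  refine Nat.le_sub_one_of_lt ?_
  obtain ⟨e, rfl⟩ : ∃ e, M = e + 1 := ⟨M - 1, by omega⟩
  rw [Nat.add_sub_cancel] at hD
  have h1 : (q + 1) * W ≤ (q + 1) * q ^ D := Nat.mul_le_mul_left _ hW
  rcases (by omega : e = 0 ∨ 1 ≤ e) with rfl | he
  · simp only [zero_add, Nat.clog_one_right, pow_zero, mul_one]
    refine lt_of_le_of_lt h1 (lt_of_lt_of_le (Nat.mul_lt_mul_of_pos_right (show q + 1 < q ^ 2 by nlinarith)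
      (by positivity)) ?_)
    rw [← pow_add]
    exact Nat.pow_le_pow_right (by omega) (by omega)
  · have hcl := pow_clog_le hp (by omega : 2 ≤ e + 1)
    rw [Nat.add_sub_cancel] at hcl
    refine lt_of_le_of_lt (Nat.mul_le_mul h1 (hcl.trans (Nat.mul_le_mul_right _ hpq))) ?_
    rw [show (q + 1) * q ^ D * (q * e) = (q + 1) * e * q ^ (D + 1) by ring]
    refine lt_of_lt_of_le (Nat.mul_lt_mul_of_pos_right (sq_add_le hq2 he) (by positivity)) ?_
    rw [← pow_add]
    exact Nat.pow_le_pow_right (by omega) (by omega)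

/-- Two orbits, no repeated eigenvalue. -/
theorem two_orbits_simple (hp : p.Prime) (hf : 1 ≤ f) (hq : q = p ^ f) (hd : 3 ≤ d)
    {l k : ℕ} (hl : 1 ≤ l) (hk : 1 ≤ k) (hlk : l + k = d) :
    (q + 1) * (fac q l * fac q k) ≤ tgt p f q d := by
  have hpq : p ≤ q := by rw [hq]; exact Nat.le_self_pow (by omega) p
  have hq2 : 2 ≤ q := hp.two_le.trans hpq
  have h1case : ∀ k, k + 1 = d → (q + 1) * fac q k ≤ tgt p f q d := by
    intro k hk
    rw [fac_mul, tor]
    have hb := base_le_tgt hp hq hd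
    have hk' : k = d - 1 := by omega
    subst hk'
    split_ifs with h
    · exact hb
    · have hno : ¬ Odd d := fun ho => h (Nat.Odd.sub_odd ho odd_one)
      unfold tgt
      rw [if_neg hno]
      split_ifs with h2
      · subst h2
        rw [mul_add, mul_one, show (4 : ℕ) = 2 ^ 2 from rfl, ← pow_add, show 2 + (d - 3) = d - 1 by omega]
        omega
      · exact le_rfl
  rcases (by omega : l = 1 ∨ k = 1 ∨ (2 ≤ l ∧ 2 ≤ k)) with rfl | rfl | ⟨hl2, hk2⟩
  · rw [fac_one, one_mul]; exact h1case k (by omega)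
  · rw [fac_one, mul_one]; exact h1case l hlk
  refine le_trans ?_ (base_le_tgt hp hq hd)
  refine Nat.le_sub_one_of_lt ?_
  rw [← mul_assoc, fac_mul]
  have hfk := fac_lt hq2 hk2
  unfold tor
  split_ifs with h
  · refine lt_of_le_of_lt (Nat.mul_le_mul (Nat.sub_le _ _) le_rfl) ?_
    refine lt_of_lt_of_le (Nat.mul_lt_mul_of_pos_left hfk (by positivity)) ?_
    rw [← pow_add]
    exact Nat.pow_le_pow_right (by omega) (by omega)
  by_cases h' : Even k
  · -- the second factor is of the form `(q^k - 1)/(q + 1)`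
    have hk3 : (q + 1) * fac q k ≤ q ^ k := by rw [fac_mul, tor, if_pos h']; omega
    have hl3 : q ^ l + 1 < q ^ (l - 1) * (q + 1) := by
      obtain ⟨i, rfl⟩ : ∃ i, l = i + 1 := ⟨l - 1, by omega⟩
      have : q ≤ q ^ i := Nat.le_self_pow (by omega) q
      rw [Nat.add_sub_cancel, pow_succ]
      nlinarith
    by_contra hc
    rw [not_lt] at hc
    have := Nat.mul_le_mul_left (q + 1) hc
    rw [show (q + 1) * ((q ^ l + 1) * fac q k) = (q ^ l + 1) * ((q + 1) * fac q k) by ring] at this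
    have h4 := this.trans (Nat.mul_le_mul_left _ hk3)
    have h5 : q ^ (d - 1) = q ^ (l - 1) * q ^ k := by rw [← pow_add]; congr 1; omega
    rw [h5] at h4
    have hpos : 0 < q ^ k := by positivity
    nlinarith
  · have hk3 : (q + 1) * fac q k = q ^ k + 1 := by rw [fac_mul, tor, if_neg h']
    obtain ⟨i, rfl⟩ := Nat.not_even_iff_odd.1 h
    obtain ⟨j, rfl⟩ := Nat.not_even_iff_odd.1 h'
    by_contra hc
    rw [not_lt] at hc
    have := Nat.mul_le_mul_left (q + 1) hc
    rw [show (q + 1) * ((q ^ (2 * i + 1) + 1) * fac q (2 * j + 1)) =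
      (q ^ (2 * i + 1) + 1) * ((q + 1) * fac q (2 * j + 1)) by ring, hk3] at this
    have hA : q ^ 3 ≤ q ^ (2 * i + 1) := Nat.pow_le_pow_right (by omega) (by omega)
    have hB : q ^ 3 ≤ q ^ (2 * j + 1) := Nat.pow_le_pow_right (by omega) (by omega)
    have hA8 : 8 ≤ q ^ 3 := by have := Nat.pow_le_pow_left hq2 3; omega
    have h5 : q * q ^ (d - 1) = q ^ (2 * i + 1) * q ^ (2 * j + 1) := by
      rw [← pow_succ', ← pow_add]; congr 1; omega
    have h6 : q ^ (2 * i + 1) + q ^ (2 * j + 1) + 1 < q ^ (d - 1) := by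
      rcases le_total (q ^ (2 * i + 1)) (q ^ (2 * j + 1)) with hle | hle
      · have : q ^ 2 * q ^ (2 * j + 1) ≤ q ^ (d - 1) := by
          rw [← pow_add]; exact Nat.pow_le_pow_right (by omega) (by omega)
        nlinarith [Nat.mul_le_mul_right (q ^ (2 * j + 1)) (Nat.pow_le_pow_left hq2 2)]
      · have : q ^ 2 * q ^ (2 * i + 1) ≤ q ^ (d - 1) := by
          rw [← pow_add]; exact Nat.pow_le_pow_right (by omega) (by omega)
        nlinarith [Nat.mul_le_mul_right (q ^ (2 * i + 1)) (Nat.pow_le_pow_left hq2 2)]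
    nlinarith

/-- An orbit of length one with repeated eigenvalue and one simple orbit. -/
theorem two_orbits_fixed (hp : p.Prime) (hf : 1 ≤ f) (hq : q = p ^ f) (hd : 3 ≤ d)
    {k e : ℕ} (hk : 1 ≤ k) (he : 1 ≤ e) (hke : k + e + 1 = d) :
    (q + 1) * (fac q 1 * fac q k) * p ^ Nat.clog p (e + 1) ≤ tgt p f q d := by
  rw [fac_one, one_mul, fac_mul]
  have hpq : p ≤ q := by rw [hq]; exact Nat.le_self_pow (by omega) p
  have hq2 : 2 ≤ q := hp.two_le.trans hpq
  have hcl := pow_clog_le hp (by omega : 2 ≤ e + 1)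
  rw [Nat.add_sub_cancel] at hcl
  have hb := base_le_tgt hp hq hd
  have hd1 : d - 1 = k + e := by omega
  have hA : 2 ≤ q ^ k := hq2.trans (Nat.le_self_pow (by omega) q)
  rcases (by omega : 2 ≤ f ∨ f = 1) with hf2 | rfl
  · refine le_trans ?_ hb
    refine Nat.le_sub_one_of_lt ?_
    have h2p : 2 * p ≤ q := by
      rw [hq]
      refine le_trans ?_ (Nat.pow_le_pow_right hp.pos hf2)
      rw [sq]; exact Nat.mul_le_mul_right _ hp.two_le
    have hq4 : 4 ≤ q := le_trans (by linarith [hp.two_le]) h2p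
    refine lt_of_le_of_lt (Nat.mul_le_mul (tor_le q k) hcl) ?_
    have he' : e ≤ q ^ (e - 1) := (le_two_pow_pred e).trans (Nat.pow_le_pow_left hq2 _)
    have h5 : q ^ (d - 1) = q ^ k * (q * q ^ (e - 1)) := by
      rw [← pow_succ', ← pow_add]; congr 1; omega
    rw [h5]
    calc (q ^ k + 1) * (p * e) < (2 * q ^ k) * (p * e) :=
          Nat.mul_lt_mul_of_pos_right (by omega) (Nat.mul_pos hp.pos (by omega))
      _ = q ^ k * ((2 * p) * e) := by ring
      _ ≤ q ^ k * (q * q ^ (e - 1)) := Nat.mul_le_mul_left _ (Nat.mul_le_mul h2p he')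
  · rw [pow_one] at hq
    subst hq
    rcases (by omega : e = 1 ∨ e = 2 ∨ 3 ≤ e) with rfl | rfl | he3
    · have hc : Nat.clog q (1 + 1) = 1 := Nat.clog_eq_one (by norm_num) hp.two_le
      rw [hc, pow_one, tor]
      split_ifs with h
      · refine le_trans ?_ hb
        rw [hd1, pow_succ, Nat.sub_mul, one_mul]
        omega
      · have hno : Odd d := by
          obtain ⟨i, hi⟩ := Nat.not_even_iff_odd.1 h
          exact ⟨i + 1, by omega⟩
        rw [tgt, if_pos hno, if_pos rfl, show d - 2 = k by omega]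
    · rcases (by omega : 3 ≤ q ∨ q = 2) with hp3 | rfl
      · have hc : Nat.clog q (2 + 1) = 1 := Nat.clog_eq_one (by norm_num) hp3
        rw [hc, pow_one]
        refine le_trans ?_ hb
        refine Nat.le_sub_one_of_lt (lt_of_le_of_lt (Nat.mul_le_mul_right _ (tor_le q k)) ?_)
        rw [hd1, pow_add, sq]
        have h1 : (q ^ k + 1) < 2 * q ^ k := by omega
        calc (q ^ k + 1) * q < 2 * q ^ k * q := Nat.mul_lt_mul_of_pos_right h1 (by omega)
          _ ≤ q * q ^ k * q := Nat.mul_le_mul_right _ (Nat.mul_le_mul_right _ (by omega))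
          _ = q ^ k * (q * q) := by ring
      · have hc : Nat.clog 2 (2 + 1) = 2 := by
          rw [show (2 + 1 : ℕ) = 3 from rfl]
          exact le_antisymm (Nat.clog_le_of_le_pow (by norm_num))
            ((Nat.lt_clog_iff_pow_lt (by norm_num)).2 (by norm_num))
        rw [hc, tor]
        split_ifs with h
        · refine le_trans ?_ hb
          rw [hd1, pow_add, Nat.sub_mul]
          omega
        · have hno : ¬ Odd d := by
            obtain ⟨i, hi⟩ := Nat.not_even_iff_odd.1 h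
            exact fun ho => by obtain ⟨j, hj⟩ := ho; omega
          rw [tgt, if_neg hno, if_pos rfl, show d - 3 = k by omega, mul_comm]
          norm_num
    · refine le_trans ?_ hb
      refine Nat.le_sub_one_of_lt ?_
      rw [hd1, pow_add]
      rcases (by omega : 3 ≤ q ∨ q = 2) with hp3 | rfl
      · refine lt_of_le_of_lt (Nat.mul_le_mul (tor_le q k) hcl) ?_
        have hk3 : 3 ≤ q ^ k := hp3.trans (Nat.le_self_pow (by omega) q)
        have h3e : 2 * e ≤ q ^ (e - 1) := by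
          refine le_trans ?_ (Nat.pow_le_pow_left hp3 _)
          clear hcl hke hd1 he
          induction e, he3 using Nat.le_induction with
          | base => norm_num
          | succ e he ih => rw [show e + 1 - 1 = e - 1 + 1 by omega, pow_succ]; omega
        have h5 : q ^ e = q * q ^ (e - 1) := by rw [← pow_succ']; congr 1; omega
        rw [h5]
        calc (q ^ k + 1) * (q * e) < (2 * q ^ k) * (q * e) :=
              Nat.mul_lt_mul_of_pos_right (by omega) (Nat.mul_pos hp.pos (by omega))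
          _ = q ^ k * (q * (2 * e)) := by ring
          _ ≤ q ^ k * (q * q ^ (e - 1)) := Nat.mul_le_mul_left _ (Nat.mul_le_mul_left _ h3e)
      · rcases (by omega : e = 3 ∨ 4 ≤ e) with rfl | he4
        · have hc : Nat.clog 2 (3 + 1) = 2 := by
            rw [show (3 + 1 : ℕ) = 2 ^ 2 from rfl, Nat.clog_pow _ _ (by norm_num)]
          rw [hc]
          have := tor_le 2 k
          omega
        · refine lt_of_le_of_lt (Nat.mul_le_mul (tor_le 2 k) hcl) ?_
          have h3e : 3 * e < 2 ^ e := by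
            clear hcl hke hd1 he he3
            induction e, he4 using Nat.le_induction with
            | base => norm_num
            | succ e he ih => rw [pow_succ]; omega
          have := Nat.mul_lt_mul_of_pos_left h3e (show 0 < 2 ^ k by positivity)
          nlinarith

/-- Two orbits. -/
theorem two_orbits (hp : p.Prime) (hf : 1 ≤ f) (hq : q = p ^ f) (hd : 3 ≤ d)
    {l k M m : ℕ} (hl : 1 ≤ l) (hk : 1 ≤ k) (hm : 1 ≤ m) (hmM : m ≤ M) (hlk : l * M + k * m = d) :
    (q + 1) * (fac q l * fac q k) * p ^ Nat.clog p M ≤ tgt p f q d := by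
  have hpq : p ≤ q := by rw [hq]; exact Nat.le_self_pow (by omega) p
  have hq2 : 2 ≤ q := hp.two_le.trans hpq
  obtain ⟨e, rfl⟩ : ∃ e, M = e + 1 := ⟨M - 1, by omega⟩
  rcases (by omega : e = 0 ∨ 1 ≤ e) with rfl | he
  · have : m = 1 := by omega
    subst this
    simp only [zero_add, Nat.clog_one_right, pow_zero, mul_one] at hlk ⊢
    exact two_orbits_simple hp hf hq hd hl hk hlk
  rcases (by omega : (l = 1 ∧ m = 1) ∨ (2 ≤ l ∨ 2 ≤ m)) with ⟨rfl, rfl⟩ | hbig
  · exact two_orbits_fixed hp hf hq hd hk he (by omega)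
  refine le_trans ?_ (base_le_tgt hp hq hd)
  refine Nat.le_sub_one_of_lt ?_
  have hcl := pow_clog_le hp (by omega : 2 ≤ e + 1)
  rw [Nat.add_sub_cancel] at hcl
  have hprod : fac q l * fac q k ≤ q ^ (l - 1 + (k - 1)) := by
    rw [pow_add]; exact Nat.mul_le_mul (fac_le hq2 hl) (fac_le hq2 hk)
  refine lt_of_le_of_lt (Nat.mul_le_mul (Nat.mul_le_mul_left _ hprod) (hcl.trans (Nat.mul_le_mul_right _ hpq))) ?_
  rw [show (q + 1) * q ^ (l - 1 + (k - 1)) * (q * e) = (q + 1) * e * q ^ (l - 1 + (k - 1) + 1) by ring]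
  refine lt_of_lt_of_le (Nat.mul_lt_mul_of_pos_right (sq_add_le hq2 he) (by positivity)) ?_
  rw [← pow_add]
  refine Nat.pow_le_pow_right (by omega) ?_
  have h1 : l * (e + 1) = l * e + l := by ring
  rcases hbig with h | h
  · have : 2 * e ≤ l * e := Nat.mul_le_mul_right _ h
    have : k ≤ k * m := Nat.le_mul_of_pos_right _ hm
    omega
  · have : 1 * e ≤ l * e := Nat.mul_le_mul_right _ hl
    have : k * 2 ≤ k * m := Nat.mul_le_mul_left _ h
    omega

end Cfsg.Agent.Classical.PGUOrder
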