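import Cfsg.Agent.Classical.PGUOrder.Spaces

/-!
Elements of large order in projective unitary groups: Singer blocks and small unipotent blocks.
-/

set_option autoImplicit false

namespace Cfsg.Agent.Classical.PGUOrder

open Module

variable {F : Type*} [Field F] {σ : F →+* F}

section Mul

variable {E : Type*} [Field E] [Algebra F E]

/-- Multiplication by a unit of an extension field. -/
noncomputable def mulEquiv : Eˣ →* (E ≃ₗ[F] E) :=
  (LinearMap.GeneralLinearGroup.generalLinearEquiv F E).toMonoidHom.comp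
    (Units.map (Algebra.lmul F E).toMonoidHom)

theorem mulEquiv_apply (u : Eˣ) (x : E) : mulEquiv (F := F) u x = (u : E) * x := rfl

theorem orderOf_mulEquiv (u : Eˣ) : orderOf (mulEquiv (F := F) u) = orderOf u := by
  refine orderOf_injective _ (fun a b h => Units.ext ?_) u
  simpa [mulEquiv_apply] using LinearEquiv.congr_fun h 1

/-- `Tr(τ x · y)` for a semilinear `τ`. -/
noncomputable def traceForm' (τ : E →+* E) (hτ : ∀ a : F, τ (algebraMap F E a) = algebraMap F E (σ a)) :
    E →ₛₗ[σ] E →ₗ[F] F :=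
  LinearMap.mk₂'ₛₗ σ (RingHom.id F) (fun x y => Algebra.trace F E (τ x * y))
    (fun x x' y => by simp [add_mul])
    (fun c x y => by rw [Algebra.smul_def c x, map_mul τ, hτ, mul_assoc, ← Algebra.smul_def, map_smul])
    (fun x y y' => by simp [mul_add])
    (fun c x y => by simp)

theorem traceForm'_apply (τ : E →+* E) (hτ : ∀ a : F, τ (algebraMap F E a) = algebraMap F E (σ a)) (x y : E) :
    traceForm' τ hτ x y = Algebra.trace F E (τ x * y) := rfl

variable [Finite E]

theorem trace_ne_zero {x : E} (hx : ∀ y, Algebra.trace F E (x * y) = 0) : x = 0 := by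
  haveI : Finite F := Finite.of_injective _ (algebraMap F E).injective
  exact (traceForm_nondegenerate F E).1 x hx

theorem trace_map (τ : E →+* E) (hτ : ∀ a : F, τ (algebraMap F E a) = algebraMap F E (σ a)) (z : E) :
    Algebra.trace F E (τ z) = σ (Algebra.trace F E z) := by
  refine (algebraMap F E).injective ?_
  rw [← hτ, FiniteField.algebraMap_trace_eq_sum_pow, FiniteField.algebraMap_trace_eq_sum_pow, map_sum]
  simp only [map_pow]

end Mul

variable [Fintype F] {p f q : ℕ}

theorem charP_of_card (hp : p.Prime) (hq : q = p ^ f) (hF : Fintype.card F = q ^ 2) : CharP F p := by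
  obtain ⟨p', hp'⟩ := CharP.exists F
  obtain ⟨k, hpr, hk⟩ := FiniteField.card F p'
  have : p' = p := by
    have h1 : p' ∣ p ^ (f * 2) := by rw [pow_mul, ← hq, ← hF, hk]; exact dvd_pow_self _ k.ne_zero
    exact (Nat.prime_dvd_prime_iff_eq hpr hp).1 (hpr.dvd_of_dvd_pow h1)
  exact this ▸ hp'

theorem exists_orderOf_unit {E : Type*} [Field E] [Finite E] {N : ℕ} (hN : N ∣ Nat.card E - 1) :
    ∃ u : Eˣ, orderOf u = N := by
  obtain ⟨g, hg⟩ := IsCyclic.exists_generator (α := Eˣ)
  have hg' : orderOf g = Nat.card E - 1 := by rw [orderOf_eq_card_of_forall_mem_zpowers hg, Nat.card_units]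
  have h0 : Nat.card E - 1 ≠ 0 := by
    have : 1 < Nat.card E := Finite.one_lt_card
    omega
  obtain ⟨k, hk⟩ := hN
  refine ⟨g ^ k, ?_⟩
  have hk0 : k ≠ 0 := by rintro rfl; simp at hk; exact h0 hk
  rw [orderOf_pow' g hk0, hg', hk, Nat.gcd_mul_left_left, Nat.mul_div_cancel _ (Nat.pos_of_ne_zero hk0)]

/-- A Singer block: an isometry of order `q^n + 1` on a space of odd dimension `n`. -/
theorem exists_singer [Fact p.Prime] (hq : q = p ^ f) (hF : Fintype.card F = q ^ 2) (hσ : Herm.IsInvol σ)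
    (hσq : ∀ x, σ x = x ^ q) {n : ℕ} (hn : Odd n) :
    ∃ (V : Type) (_ : AddCommGroup V) (_ : Module F V) (_ : FiniteDimensional F V)
      (B : V →ₛₗ[σ] V →ₗ[F] F) (e : V ≃ₗ[F] V), Herm.IsHerm B ∧ finrank F V = n ∧
        (∀ x y, B (e x) (e y) = B x y) ∧ orderOf e = q ^ n + 1 := by
  classical
  haveI : CharP F p := charP_of_card Fact.out hq hF
  haveI : NeZero n := ⟨Nat.ne_of_gt hn.pos⟩
  let E := FiniteField.Extension F p n
  haveI : CharP E p := charP_of_injective_algebraMap (algebraMap F E).injective p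
  have hE : Nat.card E = (q ^ n) ^ 2 := by
    rw [FiniteField.natCard_extension, Nat.card_eq_fintype_card, hF, ← pow_mul, ← pow_mul, mul_comm]
  let τ : E →+* E := iterateFrobenius E p (f * n)
  have hτx : ∀ x : E, τ x = x ^ q ^ n := fun x => by rw [hq, ← pow_mul]; exact iterateFrobenius_def p _ x
  obtain ⟨i, hi⟩ := hn
  have hτ : ∀ a : F, τ (algebraMap F E a) = algebraMap F E (σ a) := by
    intro a
    have h : a ^ q ^ n = a ^ q := by
      rw [hi, pow_add, pow_one, pow_mul, pow_mul, ← hF, FiniteField.pow_card_pow]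
    rw [hτx, ← map_pow, hσq, h]
  haveI := Fintype.ofFinite E
  have hττ : ∀ x : E, τ (τ x) = x := fun x => by
    rw [hτx, hτx, ← pow_mul, ← sq, ← hE, Nat.card_eq_fintype_card, FiniteField.pow_card]
  have hq1 : 1 ≤ q ^ n := Nat.one_le_pow _ _ (by rw [hq]; exact pow_pos (Fact.out : p.Prime).pos _)
  obtain ⟨u, hu⟩ := exists_orderOf_unit (E := E) (N := q ^ n + 1)
    (by rw [hE, show (1 : ℕ) = 1 ^ 2 from rfl, Nat.sq_sub_sq]; exact dvd_mul_right _ _)
  have hu' : τ (u : E) * u = 1 := by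
    have := congrArg Units.val (pow_orderOf_eq_one u)
    rw [hu, Units.val_pow_eq_pow_val, Units.val_one, pow_succ] at this
    rw [hτx]; exact this
  refine ⟨E, inferInstance, inferInstance, inferInstance, traceForm' τ hτ, mulEquiv u, ?_,
    FiniteField.finrank_extension F p n, fun x y => ?_, (orderOf_mulEquiv u).trans hu⟩
  · refine { toIsInvol := hσ, symm := fun x y => ?_, nondeg := fun x hx => ?_ }
    · rw [traceForm'_apply, traceForm'_apply, ← trace_map τ hτ, map_mul τ, hττ, mul_comm]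
    · have : τ x = 0 := trace_ne_zero (F := F) fun y => hx y
      exact (map_eq_zero τ).1 this
  · rw [traceForm'_apply, traceForm'_apply, mulEquiv_apply, mulEquiv_apply, map_mul τ]
    refine congrArg _ ?_
    linear_combination (τ x * y) * hu'

/-- A hyperbolic Singer block: an isometry of order `q^(2k) - 1` on a space of dimension `2k`. -/
theorem exists_hyperbolic_singer [Fact p.Prime] (hq : q = p ^ f) (hF : Fintype.card F = q ^ 2)
    (hσ : Herm.IsInvol σ) (hσq : ∀ x, σ x = x ^ q) {k : ℕ} (hk : 1 ≤ k) :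
    ∃ (V : Type) (_ : AddCommGroup V) (_ : Module F V) (_ : FiniteDimensional F V)
      (B : V →ₛₗ[σ] V →ₗ[F] F) (e : V ≃ₗ[F] V), Herm.IsHerm B ∧ finrank F V = 2 * k ∧
        (∀ x y, B (e x) (e y) = B x y) ∧ orderOf e = q ^ (2 * k) - 1 := by
  classical
  haveI : CharP F p := charP_of_card Fact.out hq hF
  haveI : NeZero k := ⟨Nat.ne_of_gt hk⟩
  let E := FiniteField.Extension F p k
  haveI : CharP E p := charP_of_injective_algebraMap (algebraMap F E).injective p
  have hE : Nat.card E = q ^ (2 * k) := by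
    rw [FiniteField.natCard_extension, Nat.card_eq_fintype_card, hF, ← pow_mul]
  let τ : E →+* E := iterateFrobenius E p f
  have hτx : ∀ x : E, τ x = x ^ q := fun x => by rw [hq]; exact iterateFrobenius_def p _ x
  have hτ : ∀ a : F, τ (algebraMap F E a) = algebraMap F E (σ a) := fun a => by rw [hτx, ← map_pow, hσq]
  obtain ⟨μ, hμ⟩ := exists_orderOf_unit (E := E) dvd_rfl
  let lam : Eˣ := μ
  let nu : Eˣ := (Units.map τ.toMonoidHom lam)⁻¹
  have hnu : τ (lam : E) * (nu : E) = 1 := congrArg Units.val (mul_inv_cancel (Units.map τ.toMonoidHom lam))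
  let B : (E × E) →ₛₗ[σ] (E × E) →ₗ[F] F :=
    LinearMap.mk₂'ₛₗ σ (RingHom.id F)
      (fun x y => Algebra.trace F E (τ x.1 * y.2) + σ (Algebra.trace F E (τ y.1 * x.2)))
      (fun x x' y => by simp [add_mul, mul_add]; ring)
      (fun c x y => by simp [Algebra.smul_def, hτ, mul_assoc, mul_left_comm _ (algebraMap F E c)]; simp [← Algebra.smul_def]; ring)
      (fun x y y' => by simp [add_mul, mul_add]; ring)
      (fun c x y => by simp [Algebra.smul_def, hτ, mul_assoc, mul_left_comm _ (algebraMap F E c)]; simp [← Algebra.smul_def, hσ.invol]; ring)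
  have hBapp : ∀ x y, B x y = Algebra.trace F E (τ x.1 * y.2) + σ (Algebra.trace F E (τ y.1 * x.2)) :=
    fun x y => rfl
  refine ⟨E × E, inferInstance, inferInstance, inferInstance, B,
    (mulEquiv lam).prodCongr (mulEquiv nu), ?_, ?_, fun x y => ?_, ?_⟩
  · refine { toIsInvol := hσ, symm := fun x y => ?_, nondeg := fun x hx => ?_ }
    · rw [hBapp, hBapp, map_add, hσ.invol, add_comm]
    · have h1 : τ x.1 = 0 := trace_ne_zero (F := F) fun y => by simpa [hBapp] using hx (0, y)
      have h2 : x.2 = 0 := trace_ne_zero (F := F) fun z => by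
        obtain ⟨y, rfl⟩ := (Finite.injective_iff_surjective.1 τ.injective) z
        have := hx (y, 0)
        simp [hBapp] at this
        rwa [mul_comm]
      exact Prod.ext ((map_eq_zero τ).1 h1) h2
  · rw [Module.finrank_prod, FiniteField.finrank_extension]; omega
  · simp only [hBapp, LinearEquiv.prodCongr_apply, mulEquiv_apply, map_mul]
    refine congrArg₂ (· + ·) (congrArg _ ?_) (congrArg _ (congrArg _ ?_))
    · linear_combination (τ x.1 * y.2) * hnu
    · linear_combination (τ y.1 * x.2) * hnu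
  · rw [orderOf_prodCongr, orderOf_mulEquiv, orderOf_mulEquiv, orderOf_inv,
      orderOf_injective _ (Units.map_injective (f := τ.toMonoidHom) τ.injective), Nat.lcm_self, hμ, hE]

/-- The plane with a unipotent isometry of order `p`. -/
theorem exists_unipotent_plane [Fact p.Prime] (hq : q = p ^ f) (hF : Fintype.card F = q ^ 2)
    (hσ : Herm.IsInvol σ) :
    ∃ (B : (F × F) →ₛₗ[σ] (F × F) →ₗ[F] F) (e : (F × F) ≃ₗ[F] (F × F)), Herm.IsHerm B ∧
      (∀ x y, B (e x) (e y) = B x y) ∧ e (1, 0) = (1, 0) ∧ orderOf e = p := by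
  haveI : CharP F p := charP_of_card Fact.out hq hF
  obtain ⟨t, ht0, ht⟩ := Herm.exists_skew hσ
  let B : (F × F) →ₛₗ[σ] (F × F) →ₗ[F] F :=
    LinearMap.mk₂'ₛₗ σ (RingHom.id F) (fun x y => σ x.1 * y.2 + σ x.2 * y.1)
      (fun x x' y => by simp; ring) (fun c x y => by simp; ring)
      (fun x y y' => by simp; ring) (fun c x y => by simp; ring)
  have hBapp : ∀ x y, B x y = σ x.1 * y.2 + σ x.2 * y.1 := fun x y => rfl
  let e : (F × F) ≃ₗ[F] (F × F) :=
    { toFun := fun x => (x.1 + t * x.2, x.2)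
      invFun := fun x => (x.1 - t * x.2, x.2)
      map_add' := fun x y => by ext <;> simp <;> ring
      map_smul' := fun c x => by ext <;> simp <;> ring
      left_inv := fun x => by ext <;> simp
      right_inv := fun x => by ext <;> simp }
  have hpow : ∀ (j : ℕ) (x : F × F), (e ^ j) x = (x.1 + (j : F) * t * x.2, x.2) := by
    intro j
    induction j with
    | zero => intro x; simp
    | succ j ih =>
      intro x
      rw [pow_succ, LinearEquiv.mul_apply, ih]
      ext <;> simp [e]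
      ring
  refine ⟨B, e, ?_, fun x y => ?_, by simp [e], ?_⟩
  · refine { toIsInvol := hσ, symm := fun x y => ?_, nondeg := fun x hx => ?_ }
    · simp [hBapp, hσ.invol]; ring
    · refine Prod.ext ?_ ?_
      · simpa [hBapp] using hx (0, 1)
      · simpa [hBapp] using hx (1, 0)
  · simp only [hBapp, e, LinearEquiv.coe_mk, LinearMap.coe_mk, AddHom.coe_mk, map_add, map_mul, ht]
    ring
  · refine orderOf_eq_prime (LinearEquiv.ext fun x => ?_) fun he => ?_
    · simp [hpow]
    · have := congrArg Prod.fst (LinearEquiv.congr_fun he (0, 1))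
      simp [e] at this
      exact ht0 this

/-- In characteristic two, a three-dimensional space with a unipotent isometry of order four. -/
theorem exists_unipotent_three [CharP F 2] (hσ : Herm.IsInvol σ) :
    ∃ (B : (F × F × F) →ₛₗ[σ] (F × F × F) →ₗ[F] F) (e : (F × F × F) ≃ₗ[F] (F × F × F)), Herm.IsHerm B ∧
      (∀ x y, B (e x) (e y) = B x y) ∧ e (1, 0, 0) = (1, 0, 0) ∧ orderOf e = 4 := by
  obtain ⟨b, hb⟩ := Herm.exists_trace hσ (a := 1) (map_one σ)
  have h2 : (2 : F) = 0 := CharP.cast_eq_zero F 2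
  let B : (F × F × F) →ₛₗ[σ] (F × F × F) →ₗ[F] F :=
    LinearMap.mk₂'ₛₗ σ (RingHom.id F) (fun x y => σ x.1 * y.2.2 + σ x.2.1 * y.2.1 + σ x.2.2 * y.1)
      (fun x x' y => by simp; ring) (fun c x y => by simp; ring)
      (fun x y y' => by simp; ring) (fun c x y => by simp; ring)
  have hBapp : ∀ x y, B x y = σ x.1 * y.2.2 + σ x.2.1 * y.2.1 + σ x.2.2 * y.1 := fun x y => rfl
  let e : (F × F × F) ≃ₗ[F] (F × F × F) :=
    { toFun := fun x => (x.1 + x.2.1 + b * x.2.2, x.2.1 + x.2.2, x.2.2)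
      invFun := fun x => (x.1 - (x.2.1 - x.2.2) - b * x.2.2, x.2.1 - x.2.2, x.2.2)
      map_add' := fun x y => by ext <;> simp <;> ring
      map_smul' := fun c x => by ext <;> simp <;> ring
      left_inv := fun x => by ext <;> simp <;> ring
      right_inv := fun x => by ext <;> simp <;> ring }
  have he2 : ∀ x : F × F × F, (e ^ 2) x = (x.1 + x.2.2, x.2.1, x.2.2) := by
    intro x
    rw [sq, LinearEquiv.mul_apply]
    ext <;> simp [e]
    · linear_combination (x.2.1 + b * x.2.2) * h2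
    · linear_combination x.2.2 * h2
  refine ⟨B, e, ?_, fun x y => ?_, by simp [e], ?_⟩
  · refine { toIsInvol := hσ, symm := fun x y => ?_, nondeg := fun x hx => ?_ }
    · simp [hBapp, hσ.invol]; ring
    · refine Prod.ext ?_ (Prod.ext ?_ ?_)
      · simpa [hBapp] using hx (0, 0, 1)
      · simpa [hBapp] using hx (0, 1, 0)
      · simpa [hBapp] using hx (1, 0, 0)
  · simp only [hBapp, e, LinearEquiv.coe_mk, LinearMap.coe_mk, AddHom.coe_mk, map_add, map_mul]
    linear_combination (σ x.2.1 * y.2.2 + σ x.2.2 * y.2.1 + σ x.2.2 * y.2.2) * h2 + (σ x.2.2 * y.2.2) * hb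
  · refine orderOf_eq_prime_pow (p := 2) (n := 1) (fun he => ?_) ?_
    · have := congrArg Prod.fst (LinearEquiv.congr_fun he (0, 0, 1))
      rw [pow_one, he2] at this
      simp at this
    · refine LinearEquiv.ext fun x => ?_
      rw [show (2 : ℕ) ^ (1 + 1) = 2 + 2 from rfl, pow_add, LinearEquiv.mul_apply, he2, he2]
      ext <;> simp
      linear_combination x.2.2 * h2

theorem lower {F : Type*} [Field F] [Fintype F] (p f d : ℕ) (hp : p.Prime) (hf : 1 ≤ f) (q : ℕ) (hq : q = p ^ f)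
    (hF : Fintype.card F = q ^ 2) (hd : 3 ≤ d) :
    (Odd d → 2 ≤ f → ∃ g : Cfsg.GU d F q,
      orderOf (QuotientGroup.mk g : Cfsg.GU d F q ⧸ Subgroup.center (Cfsg.GU d F q)) = q ^ (d - 1) - 1) ∧
    (Odd d → f = 1 → ∃ g : Cfsg.GU d F q,
      orderOf (QuotientGroup.mk g : Cfsg.GU d F q ⧸ Subgroup.center (Cfsg.GU d F q)) = (p ^ (d - 2) + 1) * p) ∧
    (Even d → 2 < q → ∃ g : Cfsg.GU d F q,
      orderOf (QuotientGroup.mk g : Cfsg.GU d F q ⧸ Subgroup.center (Cfsg.GU d F q)) = q ^ (d - 1) + 1) ∧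
    (Even d → q = 2 → ∃ g : Cfsg.GU d F q,
      orderOf (QuotientGroup.mk g : Cfsg.GU d F q ⧸ Subgroup.center (Cfsg.GU d F q)) = 4 * (2 ^ (d - 3) + 1)) := by
  classical
  haveI : Fact p.Prime := ⟨hp⟩
  obtain ⟨σ, hσq, hσ, -, -⟩ := exists_powHom hF
  refine ⟨fun ho _ => ?_, fun ho hf1 => ?_, fun he _ => ?_, fun he hq2 => ?_⟩
  · obtain ⟨i, rfl⟩ := ho
    obtain ⟨V, iA, iM, iF, B, e, hB, hV, hiso, hord⟩ := exists_hyperbolic_singer hq hF hσ hσq (k := i) (by omega)
    obtain ⟨g, hg⟩ := exists_orderOf_prod hB (hermB_isHerm hσ 1) hσq (d := 2 * i + 1)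
      (by rw [hV, Module.finrank_fin_fun]) e hiso (LinearEquiv.refl F _) (fun x y => rfl)
      (w := fun _ => 1) (fun h => one_ne_zero (congrFun h 0)) rfl
    refine ⟨g, hg.trans ?_⟩
    rw [hord, show LinearEquiv.refl F (Fin 1 → F) = 1 from rfl, orderOf_one, Nat.lcm_one_right, Nat.add_sub_cancel]
  · subst hf1
    rw [pow_one] at hq
    subst hq
    obtain ⟨i, rfl⟩ := ho
    have hn : Odd (2 * i + 1 - 2) := ⟨i - 1, by omega⟩
    obtain ⟨V, iA, iM, iF, B, e, hB, hV, hiso, hord⟩ := exists_singer (pow_one q).symm hF hσ hσq hn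
    obtain ⟨C, e', hC, hiso', hfix, hord'⟩ := exists_unipotent_plane (p := q) (f := 1) (pow_one q).symm hF hσ
    obtain ⟨g, hg⟩ := exists_orderOf_prod hB hC hσq (d := 2 * i + 1)
      (by rw [hV, Module.finrank_prod, Module.finrank_self]; omega) e hiso e' hiso' (w := (1, 0)) (by simp) hfix
    refine ⟨g, hg.trans ?_⟩
    rw [hord, hord']
    refine Nat.Coprime.lcm_eq_mul (Nat.Coprime.symm ((Nat.Prime.coprime_iff_not_dvd hp).2 fun hdvd => ?_))
    have h1 : q ∣ q ^ (2 * i + 1 - 2) := dvd_pow_self _ (by omega)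
    exact hp.one_lt.ne' (Nat.dvd_one.1 ((Nat.dvd_add_right h1).1 hdvd))
  · obtain ⟨i, rfl⟩ := he
    have hn : Odd (i + i - 1) := ⟨i - 1, by omega⟩
    obtain ⟨V, iA, iM, iF, B, e, hB, hV, hiso, hord⟩ := exists_singer hq hF hσ hσq hn
    obtain ⟨g, hg⟩ := exists_orderOf_prod hB (hermB_isHerm hσ 1) hσq (d := i + i)
      (by rw [hV, Module.finrank_fin_fun]; omega) e hiso (LinearEquiv.refl F _) (fun x y => rfl)
      (w := fun _ => 1) (fun h => one_ne_zero (congrFun h 0)) rfl
    refine ⟨g, hg.trans ?_⟩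
    rw [hord, show LinearEquiv.refl F (Fin 1 → F) = 1 from rfl, orderOf_one, Nat.lcm_one_right]
  · obtain ⟨i, rfl⟩ := he
    have hp2 : p = 2 := (Nat.prime_dvd_prime_iff_eq hp Nat.prime_two).1 (by
      rw [← hq2, hq]; exact dvd_pow_self _ (by omega))
    subst hp2
    haveI : CharP F 2 := charP_of_card hp hq hF
    have hn : Odd (i + i - 3) := ⟨i - 2, by omega⟩
    obtain ⟨V, iA, iM, iF, B, e, hB, hV, hiso, hord⟩ := exists_singer hq hF hσ hσq hn
    obtain ⟨C, e', hC, hiso', hfix, hord'⟩ := exists_unipotent_three (F := F) hσ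
    obtain ⟨g, hg⟩ := exists_orderOf_prod hB hC hσq (d := i + i)
      (by rw [hV, Module.finrank_prod, Module.finrank_prod, Module.finrank_self]; omega) e hiso e' hiso'
      (w := (1, 0, 0)) (by simp) hfix
    refine ⟨g, hg.trans ?_⟩
    rw [hord, hord', hq2, Nat.lcm_comm]
    refine Nat.Coprime.lcm_eq_mul ?_
    rw [show (4 : ℕ) = 2 ^ 2 from rfl]
    refine Nat.Coprime.pow_left 2 ((Nat.Prime.coprime_iff_not_dvd Nat.prime_two).2 fun hdvd => ?_)
    have h1 : 2 ∣ 2 ^ (i + i - 3) := dvd_pow_self _ (by omega)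
    exact absurd (Nat.dvd_one.1 ((Nat.dvd_add_right h1).1 hdvd)) (by norm_num)

end Cfsg.Agent.Classical.PGUOrder
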