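import Cfsg.Agent.Classical.PGUOrder.Arith

/-!
Orbits of `x ↦ x^(-q)` on a finite multiset of nonzero field elements and the exponent that brings all of
them to one common value.
-/

set_option autoImplicit false

namespace Cfsg.Agent.Classical.PGUOrder

variable {K : Type*} [Field K] [DecidableEq K]

/-- `x ↦ x^(-q)`. -/
def sig (q : ℕ) (x : K) : K := (x⁻¹) ^ q

theorem sig_iterate (q : ℕ) (x : K) (i : ℕ) :
    (sig q)^[i] x = if Even i then x ^ (q ^ i) else (x ^ (q ^ i))⁻¹ := by
  induction i with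
  | zero => simp
  | succ i ih =>
    rw [Function.iterate_succ_apply', ih]
    by_cases h : Even i
    · rw [if_pos h, if_neg (Nat.not_even_iff_odd.2 h.add_one), sig, inv_pow, ← pow_mul, ← pow_succ]
    · rw [if_neg h, if_pos (Nat.even_add_one.2 h), sig, inv_inv, ← pow_mul, ← pow_succ]

theorem sig_pow (q : ℕ) (x : K) (n : ℕ) : sig q (x ^ n) = sig q x ^ n := by
  simp only [sig, inv_pow, ← pow_mul, mul_comm]

theorem sig_iterate_pow (q : ℕ) (x : K) (n i : ℕ) : (sig q)^[i] (x ^ n) = (sig q)^[i] x ^ n := by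
  induction i with
  | zero => rfl
  | succ i ih => rw [Function.iterate_succ_apply', Function.iterate_succ_apply', ih, sig_pow]

theorem pow_tor_of_fixed {q l : ℕ} (hq : 1 ≤ q) {x : K} (hx : x ≠ 0) (h : (sig q)^[l] x = x) :
    x ^ tor q l = 1 := by
  rw [sig_iterate] at h
  unfold tor
  split_ifs at h ⊢ with he
  · have h1 : x ^ (q ^ l - 1) * x = 1 * x := by
      rw [← pow_succ, Nat.sub_add_cancel (Nat.one_le_pow _ _ hq), h, one_mul]
    exact mul_right_cancel₀ hx h1
  · have h2 : x ^ q ^ l = x⁻¹ := by rw [← inv_inv (x ^ q ^ l), h]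
    rw [pow_succ, h2, inv_mul_cancel₀ hx]

variable {q : ℕ}

theorem exists_orbit (hq : 1 ≤ q) (hinj : Function.Injective (sig (K := K) q)) {S : Finset K}
    (hS : S.image (sig q) = S) (h0 : (0 : K) ∉ S) {x : K} (hx : x ∈ S) :
    ∃ O : Finset K, O ⊆ S ∧ x ∈ O ∧ (S \ O).image (sig q) = S \ O ∧
      (∀ y ∈ O, ∃ i, (sig q)^[i] x = y) ∧
      (∀ y ∈ O, y ^ fac q O.card = x ^ fac q O.card) ∧ (x ^ fac q O.card) ^ (q + 1) = 1 := by
  have hxne : x ≠ 0 := fun h => h0 (h ▸ hx)
  have hmem : ∀ i, (sig q)^[i] x ∈ S := by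
    intro i
    induction i with
    | zero => exact hx
    | succ i ih =>
      rw [Function.iterate_succ_apply', ← hS]
      exact Finset.mem_image_of_mem _ ih
  have hper : x ∈ Function.periodicPts (sig q) := by
    obtain ⟨a, b, hab, he⟩ := Finite.exists_ne_map_eq_of_infinite fun i : ℕ => (⟨_, hmem i⟩ : S)
    simp only [Subtype.mk.injEq] at he
    rcases Nat.lt_or_gt_of_ne hab with h | h
    · refine Function.mk_mem_periodicPts (Nat.sub_pos_of_lt h) ?_
      refine hinj.iterate a ?_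
      rw [← Function.iterate_add_apply, Nat.add_sub_cancel' h.le, he]
    · refine Function.mk_mem_periodicPts (Nat.sub_pos_of_lt h) ?_
      refine hinj.iterate b ?_
      rw [← Function.iterate_add_apply, Nat.add_sub_cancel' h.le, he]
  set l := Function.minimalPeriod (sig q) x with hl
  have hlpos : 0 < l := Function.minimalPeriod_pos_of_mem_periodicPts hper
  let O := (Finset.range l).image fun i => (sig q)^[i] x
  have hcard : O.card = l := by
    rw [Finset.card_image_of_injOn, Finset.card_range]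
    intro a ha b hb he
    exact Function.iterate_injOn_Iio_minimalPeriod (Set.mem_Iio.2 (Finset.mem_range.1 ha))
      (Set.mem_Iio.2 (Finset.mem_range.1 hb)) he
  have hall : ∀ i, (sig q)^[i] x ∈ O := fun i =>
    Finset.mem_image.2 ⟨i % l, Finset.mem_range.2 (Nat.mod_lt _ hlpos), Function.iterate_mod_minimalPeriod_eq⟩
  have hOim : O.image (sig q) = O := by
    refine Finset.eq_of_subset_of_card_le (fun y hy => ?_) (by rw [Finset.card_image_of_injective _ hinj])
    obtain ⟨z, hz, rfl⟩ := Finset.mem_image.1 hy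
    obtain ⟨i, -, rfl⟩ := Finset.mem_image.1 hz
    rw [show sig q ((sig q)^[i] x) = (sig q)^[i + 1] x from (Function.iterate_succ_apply' _ _ _).symm]
    exact hall _
  have htor : x ^ tor q l = 1 := pow_tor_of_fixed hq hxne Function.iterate_minimalPeriod
  have hc : (x ^ fac q l) ^ (q + 1) = 1 := by rw [← pow_mul, mul_comm, fac_mul, htor]
  have hfix : sig q (x ^ fac q l) = x ^ fac q l := by
    rw [sig, inv_pow]
    refine inv_eq_of_mul_eq_one_right ?_
    rw [← pow_succ, hc]
  refine ⟨O, ?_, hall 0, ?_, ?_, ?_, by rwa [hcard]⟩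
  · intro y hy
    obtain ⟨i, -, rfl⟩ := Finset.mem_image.1 hy
    exact hmem i
  · rw [Finset.image_sdiff _ _ hinj, hS, hOim]
  · intro y hy
    obtain ⟨i, -, rfl⟩ := Finset.mem_image.1 hy
    exact ⟨i, rfl⟩
  · intro y hy
    obtain ⟨i, -, rfl⟩ := Finset.mem_image.1 hy
    rw [hcard, ← sig_iterate_pow, Function.iterate_fixed hfix]

theorem closed_bound (hq : 2 ≤ q) (hinj : Function.Injective (sig (K := K) q)) (S : Finset K)
    (hS : S.image (sig q) = S) (h0 : (0 : K) ∉ S) :
    ∃ W, 0 < W ∧ W ≤ q ^ (S.card - 1) ∧ ∀ x ∈ S, x ^ ((q + 1) * W) = 1 := by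
  induction hn : S.card using Nat.strong_induction_on generalizing S with
  | _ n ih => ?_
  subst hn
  rcases S.eq_empty_or_nonempty with rfl | ⟨x, hx⟩
  · exact ⟨1, Nat.one_pos, by simp, by simp⟩
  obtain ⟨O, hOS, hxO, hrest, -, hpow, hc⟩ := exists_orbit (by omega) hinj hS h0 hx
  have hOpos : 1 ≤ O.card := Finset.card_pos.2 ⟨x, hxO⟩
  have hsum : (S \ O).card + O.card = S.card := Finset.card_sdiff_add_card_eq_card hOS
  obtain ⟨W, hWpos, hW, hWx⟩ := ih _ (by omega) (S \ O) hrest (fun h => h0 (Finset.mem_sdiff.1 h).1) rfl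
  refine ⟨fac q O.card * W, Nat.mul_pos (fac_pos hq hOpos) hWpos, ?_, fun y hy => ?_⟩
  · refine (Nat.mul_le_mul (fac_le hq hOpos) hW).trans ?_
    rw [← pow_add]
    exact Nat.pow_le_pow_right (by omega) (by omega)
  · by_cases hyO : y ∈ O
    · rw [show (q + 1) * (fac q O.card * W) = fac q O.card * (q + 1) * W by ring, pow_mul, pow_mul,
        hpow y hyO, hc, one_pow]
    · rw [show (q + 1) * (fac q O.card * W) = (q + 1) * W * fac q O.card by ring, pow_mul,
        hWx y (Finset.mem_sdiff.2 ⟨hy, hyO⟩), one_pow]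

/-- The main estimate for a multiset of eigenvalues stable under `x ↦ x^(-q)`. -/
theorem exists_exponent {p f d : ℕ} (hp : p.Prime) (hf : 1 ≤ f) (hqp : q = p ^ f) (hd : 3 ≤ d)
    (h32 : ¬ (d = 3 ∧ q = 2)) (hinj : Function.Injective (sig (K := K) q)) (R : Multiset K)
    (h0 : (0 : K) ∉ R) (hR : R.map (sig q) = R) (hcard : R.card = d) :
    ∃ N M : ℕ, ∃ c : K, 0 < N ∧ (∀ x ∈ R, x ^ N = c) ∧ (∀ x, R.count x ≤ M) ∧
      N * p ^ Nat.clog p M ≤ tgt p f q d := by
  have hq2 : 2 ≤ q := by rw [hqp]; exact hp.two_le.trans (Nat.le_self_pow (by omega) p)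
  have h0' : (0 : K) ∉ R.toFinset := by simpa using h0
  have hS : R.toFinset.image (sig q) = R.toFinset := by
    rw [← Multiset.toFinset_map, hR]
  have hcount : ∀ x i, R.count ((sig q)^[i] x) = R.count x := by
    intro x i
    induction i with
    | zero => rfl
    | succ i ih =>
      rw [Function.iterate_succ_apply']
      conv_lhs => rw [← hR]
      rw [Multiset.count_map_eq_count' _ _ hinj, ih]
  have hne : R.toFinset.Nonempty := by
    obtain ⟨a, ha⟩ := Multiset.card_pos_iff_exists_mem.1 (by omega : 0 < R.card)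
    exact ⟨a, Multiset.mem_toFinset.2 ha⟩
  obtain ⟨x, hx, hmax⟩ := Finset.exists_max_image R.toFinset (fun x => R.count x) hne
  have hM : ∀ y, R.count y ≤ R.count x := by
    intro y
    by_cases hy : y ∈ R.toFinset
    · exact hmax y hy
    · rw [Multiset.count_eq_zero.2 (by simpa using hy)]; exact Nat.zero_le _
  have hxpos : 1 ≤ R.count x := Multiset.one_le_count_iff_mem.2 (Multiset.mem_toFinset.1 hx)
  obtain ⟨O, hOS, hxO, hrest, hiter, hpow, hc⟩ := exists_orbit (by omega) hinj hS h0' hx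
  have hOpos : 1 ≤ O.card := Finset.card_pos.2 ⟨x, hxO⟩
  have hsumO : ∑ y ∈ O, R.count y = O.card * R.count x := by
    rw [Finset.sum_const_nat]
    intro y hy
    obtain ⟨i, rfl⟩ := hiter y hy
    exact hcount x i
  have htot : ∑ y ∈ R.toFinset, R.count y = d := by rw [Multiset.toFinset_sum_count_eq, hcard]
  rw [← Finset.sum_sdiff hOS, hsumO] at htot
  rcases (R.toFinset \ O).eq_empty_or_nonempty with he | ⟨y, hy⟩
  · rw [he, Finset.sum_empty, zero_add] at htot
    refine ⟨fac q O.card, R.count x, x ^ fac q O.card, fac_pos hq2 hOpos, fun z hz => hpow z ?_, hM,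
      one_orbit hp hf hqp hd h32 hOpos hxpos htot⟩
    exact Finset.sdiff_eq_empty_iff_subset.1 he (Multiset.mem_toFinset.2 hz)
  have h0'' : (0 : K) ∉ R.toFinset \ O := fun h => h0' (Finset.mem_sdiff.1 h).1
  obtain ⟨P, hPS, hyP, hrest2, hiter2, hpow2, hc2⟩ := exists_orbit (by omega) hinj hrest h0'' hy
  have hPpos : 1 ≤ P.card := Finset.card_pos.2 ⟨y, hyP⟩
  have hsumP : ∑ z ∈ P, R.count z = P.card * R.count y := by
    rw [Finset.sum_const_nat]
    intro z hz
    obtain ⟨i, rfl⟩ := hiter2 z hz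
    exact hcount y i
  have hypos : 1 ≤ R.count y :=
    Multiset.one_le_count_iff_mem.2 (Multiset.mem_toFinset.1 (Finset.mem_sdiff.1 hy).1)
  rw [← Finset.sum_sdiff hPS, hsumP] at htot
  rcases ((R.toFinset \ O) \ P).eq_empty_or_nonempty with he | ⟨z, hz⟩
  · rw [he, Finset.sum_empty, zero_add] at htot
    refine ⟨(q + 1) * (fac q O.card * fac q P.card), R.count x, 1,
      Nat.mul_pos (by omega) (Nat.mul_pos (fac_pos hq2 hOpos) (fac_pos hq2 hPpos)), fun w hw => ?_, hM,
      two_orbits hp hf hqp hd hOpos hPpos hypos (hM y) (by omega)⟩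
    by_cases hwO : w ∈ O
    · rw [show (q + 1) * (fac q O.card * fac q P.card) = fac q O.card * (q + 1) * fac q P.card by ring,
        pow_mul, pow_mul, hpow w hwO, hc, one_pow]
    · have hwP : w ∈ P :=
        Finset.sdiff_eq_empty_iff_subset.1 he (Finset.mem_sdiff.2 ⟨Multiset.mem_toFinset.2 hw, hwO⟩)
      rw [show (q + 1) * (fac q O.card * fac q P.card) = fac q P.card * (q + 1) * fac q O.card by ring,
        pow_mul, pow_mul, hpow2 w hwP, hc2, one_pow]
  obtain ⟨W, hWpos, hW, hWx⟩ := closed_bound hq2 hinj ((R.toFinset \ O) \ P) hrest2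
    (fun h => h0'' (Finset.mem_sdiff.1 h).1)
  refine ⟨(q + 1) * (fac q O.card * fac q P.card * W), R.count x, 1,
    Nat.mul_pos (by omega) (Nat.mul_pos (Nat.mul_pos (fac_pos hq2 hOpos) (fac_pos hq2 hPpos)) hWpos),
    fun w hw => ?_, hM,
    three_orbits hp hf hqp hd hxpos (D := O.card - 1 + (P.card - 1) + (((R.toFinset \ O) \ P).card - 1)) ?_ ?_⟩
  · by_cases hwO : w ∈ O
    · rw [show (q + 1) * (fac q O.card * fac q P.card * W) = fac q O.card * (q + 1) * (fac q P.card * W) by ring,
        pow_mul, pow_mul w (fac q O.card), hpow w hwO, hc, one_pow]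
    by_cases hwP : w ∈ P
    · rw [show (q + 1) * (fac q O.card * fac q P.card * W) = fac q P.card * (q + 1) * (fac q O.card * W) by ring,
        pow_mul, pow_mul w (fac q P.card), hpow2 w hwP, hc2, one_pow]
    · rw [show (q + 1) * (fac q O.card * fac q P.card * W) = (q + 1) * W * (fac q O.card * fac q P.card) by ring,
        pow_mul, hWx w (Finset.mem_sdiff.2 ⟨Finset.mem_sdiff.2 ⟨Multiset.mem_toFinset.2 hw, hwO⟩, hwP⟩), one_pow]
  · rw [pow_add, pow_add]
    exact Nat.mul_le_mul (Nat.mul_le_mul (fac_le hq2 hOpos) (fac_le hq2 hPpos)) hW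
  · have h1 : ((R.toFinset \ O) \ P).card ≤ ∑ w ∈ (R.toFinset \ O) \ P, R.count w := by
      rw [Finset.card_eq_sum_ones]
      refine Finset.sum_le_sum fun w hw => Multiset.one_le_count_iff_mem.2 ?_
      exact Multiset.mem_toFinset.1 (Finset.mem_sdiff.1 (Finset.mem_sdiff.1 hw).1).1
    have h2 : 1 ≤ ((R.toFinset \ O) \ P).card := Finset.card_pos.2 ⟨z, hz⟩
    have h3 : P.card ≤ P.card * R.count y := Nat.le_mul_of_pos_right _ hypos
    have h4 : O.card * R.count x = O.card * (R.count x - 1) + O.card := by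
      conv_lhs => rw [← Nat.sub_add_cancel hxpos, mul_add, mul_one]
    have h5 : R.count x - 1 ≤ O.card * (R.count x - 1) := Nat.le_mul_of_pos_left _ hOpos
    omega

end Cfsg.Agent.Classical.PGUOrder
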