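import Cfsg.Agent.Classical.HermGroup

/-!
Isometries of Hermitian spaces as elements of the general unitary group modulo its centre.
-/

set_option autoImplicit false

namespace Cfsg.Agent.Classical.PGUOrder

open Module Matrix

section Center

variable {F : Type*} [Field F] [Finite F] {σ : F →+* F} {n q : ℕ}

theorem center_GU_scalar (hσ : Herm.IsInvol σ) (hσq : ∀ x, σ x = x ^ q) {z : Cfsg.GU n F q}
    (hz : z ∈ Subgroup.center (Cfsg.GU n F q)) :
    ∃ c : F, ((z : GL (Fin n) F) : Matrix (Fin n) (Fin n) F) = c • (1 : Matrix (Fin n) (Fin n) F) := by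
  classical
  set A : Matrix (Fin n) (Fin n) F := ((z : GL (Fin n) F) : Matrix (Fin n) (Fin n) F) with hA
  have hcomm : ∀ h ∈ Cfsg.GU n F q, (h : GL (Fin n) F).1 * A = A * (h : GL (Fin n) F).1 := fun h hh =>
    congrArg (fun x : Cfsg.GU n F q => (x : GL (Fin n) F).1) (Subgroup.mem_center_iff.1 hz ⟨h, hh⟩)
  obtain ⟨ζ, hζ⟩ : ∃ ζ : (Herm.normHom σ).ker, ζ ≠ 1 := by
    haveI : Nontrivial (Herm.normHom σ).ker := by
      rw [← Finite.one_lt_card_iff_nontrivial, Herm.card_ker_normHom hσ]
      have : 0 < Nat.card (Herm.fixField σ) := Nat.card_pos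
      omega
    exact exists_ne 1
  have hζ' : ((ζ : Fˣ) : F) * σ (ζ : Fˣ) = 1 := congrArg Units.val ζ.2
  have hζ1 : ((ζ : Fˣ) : F) ≠ 1 := fun h => hζ (Subtype.ext (Units.ext h))
  have hoff : ∀ i j, i ≠ j → A i j = 0 := by
    intro i j hij
    have h := hcomm _ (diag_mem hσq (fun k => if k = i then (ζ : Fˣ) else 1)
      (fun k => by split_ifs <;> simp [hζ']))
    have h2 := congrFun (congrFun h i) j
    rw [diagGL_coe, Matrix.diagonal_mul, Matrix.mul_diagonal] at h2
    simp only [if_pos, if_neg (Ne.symm hij), Units.val_one, mul_one] at h2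
    have : (((ζ : Fˣ) : F) - 1) * A i j = 0 := by linear_combination h2
    exact (mul_eq_zero.1 this).resolve_left (sub_ne_zero.2 hζ1)
  rcases Nat.eq_zero_or_pos n with rfl | hn
  · exact ⟨1, Subsingleton.elim _ _⟩
  refine ⟨A ⟨0, hn⟩ ⟨0, hn⟩, ?_⟩
  ext i j
  rcases eq_or_ne i j with rfl | hij
  swap
  · rw [hoff i j hij, Matrix.smul_apply, Matrix.one_apply_ne hij, smul_zero]
  let s := Equiv.swap i (⟨0, hn⟩ : Fin n)
  let P : Matrix (Fin n) (Fin n) F := Matrix.of fun a b => if s a = b then 1 else 0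
  have hPv : ∀ v a, (P *ᵥ v) a = v (s a) := fun v a => by simp [P, Matrix.mulVec, dotProduct]
  have hPP : P * P = 1 := by
    ext a b
    rw [Matrix.mul_apply, Finset.sum_eq_single (s a) (fun c _ hc => by simp [P, Ne.symm hc]) (by simp)]
    simp [P, Matrix.one_apply, s]
  let Pg : GL (Fin n) F := ⟨P, P, hPP, hPP⟩
  have hPmem : Pg ∈ Cfsg.GU n F q := by
    rw [mem_GU_iff hσq]
    intro u v
    rw [hermB_apply, hermB_apply]
    simp only [show (Pg : Matrix (Fin n) (Fin n) F) = P from rfl, hPv]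
    exact Equiv.sum_comp s (fun a => σ (u a) * v a)
  have h := congrFun (congrFun (hcomm Pg hPmem) i) (⟨0, hn⟩ : Fin n)
  rw [show (Pg : Matrix (Fin n) (Fin n) F) = P from rfl, Matrix.mul_apply, Matrix.mul_apply,
    Finset.sum_eq_single (s i) (fun b _ hb => by simp [P, Ne.symm hb]) (by simp),
    Finset.sum_eq_single (s (⟨0, hn⟩ : Fin n)) (fun b _ hb => by
      simp only [P, Matrix.of_apply, mul_ite, mul_one, mul_zero]
      rw [if_neg]
      intro hb'
      exact hb (by rw [← hb']; simp [s])) (by simp)] at h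
  simp [P, s] at h
  simp [h]

end Center

section Transfer

variable {F : Type*} [Field F] {σ : F →+* F} {V : Type*} [AddCommGroup V] [Module F V]

/-- Linear automorphisms as invertible matrices in a given basis. -/
noncomputable def glHom {d : ℕ} (b : Basis (Fin d) F V) : (V ≃ₗ[F] V) →* GL (Fin d) F :=
  (Units.map (LinearMap.toMatrixAlgEquiv b).toMonoidHom).comp
    (LinearMap.GeneralLinearGroup.generalLinearEquiv F V).symm.toMonoidHom

theorem glHom_coe {d : ℕ} (b : Basis (Fin d) F V) (e : V ≃ₗ[F] V) :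
    ((glHom b e : GL (Fin d) F) : Matrix (Fin d) (Fin d) F) = LinearMap.toMatrixAlgEquiv b (e : V →ₗ[F] V) := rfl

theorem glHom_injective {d : ℕ} (b : Basis (Fin d) F V) : Function.Injective (glHom b) := by
  intro e e' h
  have := congrArg Units.val h
  rw [glHom_coe, glHom_coe] at this
  exact LinearEquiv.toLinearMap_injective ((LinearMap.toMatrixAlgEquiv b).injective this)

variable [Finite F] [FiniteDimensional F V] {B : V →ₛₗ[σ] V →ₗ[F] F}

theorem exists_orderOf_eq (hB : Herm.IsHerm B) {q d : ℕ} (hσq : ∀ x, σ x = x ^ q) (hd : finrank F V = d)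
    (e : V ≃ₗ[F] V) (he : ∀ x y, B (e x) (e y) = B x y) {v : V} (hv : v ≠ 0) (hev : e v = v) :
    ∃ g : Cfsg.GU d F q, orderOf (QuotientGroup.mk g : Cfsg.GU d F q ⧸ Subgroup.center (Cfsg.GU d F q)) =
      orderOf e := by
  classical
  subst hd
  obtain ⟨b, hb⟩ := Herm.exists_orthonormal hB
  have hform : ∀ u w : Fin (finrank F V) → F, B (b.equivFun.symm u) (b.equivFun.symm w) = hermB _ σ u w := by
    intro u w
    simp only [Basis.equivFun_symm_apply, hermB_apply, map_sum, LinearMap.sum_apply, map_smulₛₗ,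
      LinearMap.smul_apply, RingHom.id_apply, smul_eq_mul, hb _ _, mul_ite, mul_one, mul_zero]
    simp [mul_comm]
  have hmem : glHom b e ∈ Cfsg.GU (finrank F V) F q := by
    rw [mem_GU_iff hσq]
    intro u w
    have h : ∀ u, b.equivFun.symm (((glHom b e : GL _ F) : Matrix _ _ F) *ᵥ u) = e (b.equivFun.symm u) := by
      intro u
      rw [LinearEquiv.symm_apply_eq, glHom_coe]
      have h2 := LinearMap.toMatrix_mulVec_repr b b (e : V →ₗ[F] V) (b.equivFun.symm u)
      have hu : (⇑(b.repr (b.equivFun.symm u)) : Fin (finrank F V) → F) = u := b.equivFun.apply_symm_apply u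
      rw [hu] at h2
      exact h2
    rw [← hform, ← hform, h, h, he]
  refine ⟨⟨glHom b e, hmem⟩, orderOf_eq_orderOf_iff.2 fun n => ⟨fun h => ?_, fun h => ?_⟩⟩
  · rw [← QuotientGroup.mk_pow, QuotientGroup.eq_one_iff] at h
    obtain ⟨c, hc⟩ := center_GU_scalar hB.toIsInvol hσq h
    rw [SubmonoidClass.coe_pow, ← map_pow, glHom_coe] at hc
    have h3 : ((e ^ n : V ≃ₗ[F] V) : V →ₗ[F] V) = c • (1 : Module.End F V) := by
      refine (LinearMap.toMatrixAlgEquiv b).injective ?_
      rw [hc, map_smul, map_one]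
    have hfix : ∀ m : ℕ, (e ^ m) v = v := by
      intro m
      induction m with
      | zero => rfl
      | succ m ih => rw [pow_succ, LinearEquiv.mul_apply, hev, ih]
    have hcv : c • v = v := by
      have := LinearMap.congr_fun h3 v
      simp only [LinearEquiv.coe_coe, hfix] at this
      simpa using this.symm
    have hc1 : c = 1 := smul_left_injective F hv (by simpa using hcv)
    refine LinearEquiv.toLinearMap_injective ?_
    rw [h3, hc1, one_smul]
    rfl
  · have h1 : (⟨glHom b e, hmem⟩ : Cfsg.GU (finrank F V) F q) ^ n = 1 :=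
      Subtype.ext (by rw [SubmonoidClass.coe_pow, ← map_pow, h, map_one, Subgroup.coe_one])
    rw [← QuotientGroup.mk_pow, h1]
    rfl

end Transfer

section Prod

variable {F : Type*} [Field F] {σ : F →+* F} {V W : Type*} [AddCommGroup V] [Module F V] [AddCommGroup W]
  [Module F W]

/-- Orthogonal sum of two forms. -/
def prodForm (B : V →ₛₗ[σ] V →ₗ[F] F) (C : W →ₛₗ[σ] W →ₗ[F] F) : (V × W) →ₛₗ[σ] (V × W) →ₗ[F] F :=
  LinearMap.mk₂'ₛₗ σ (RingHom.id F) (fun x y => B x.1 y.1 + C x.2 y.2)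
    (fun x x' y => by simp [add_add_add_comm])
    (fun c x y => by simp [mul_add])
    (fun x y y' => by simp [add_add_add_comm])
    (fun c x y => by simp [mul_add])

theorem prodForm_apply (B : V →ₛₗ[σ] V →ₗ[F] F) (C : W →ₛₗ[σ] W →ₗ[F] F) (x y : V × W) :
    prodForm B C x y = B x.1 y.1 + C x.2 y.2 := rfl

theorem prodForm_isHerm {B : V →ₛₗ[σ] V →ₗ[F] F} {C : W →ₛₗ[σ] W →ₗ[F] F} (hB : Herm.IsHerm B)
    (hC : Herm.IsHerm C) : Herm.IsHerm (prodForm B C) :=
  { toIsInvol := hB.toIsInvol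
    symm := fun x y => by simp [prodForm_apply, hB.symm, hC.symm]
    nondeg := fun x hx => Prod.ext (hB.nondeg _ fun y => by simpa [prodForm_apply] using hx (y, 0))
      (hC.nondeg _ fun y => by simpa [prodForm_apply] using hx (0, y)) }

/-- Pairs of automorphisms act on the product. -/
def prodHom : (V ≃ₗ[F] V) × (W ≃ₗ[F] W) →* ((V × W) ≃ₗ[F] (V × W)) where
  toFun p := p.1.prodCongr p.2
  map_one' := LinearEquiv.ext fun _ => rfl
  map_mul' _ _ := LinearEquiv.ext fun _ => rfl

theorem orderOf_prodCongr (e : V ≃ₗ[F] V) (e' : W ≃ₗ[F] W) :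
    orderOf (e.prodCongr e') = (orderOf e).lcm (orderOf e') := by
  have hinj : Function.Injective (prodHom (F := F) (V := V) (W := W)) := by
    intro p p' h
    refine Prod.ext (LinearEquiv.ext fun x => ?_) (LinearEquiv.ext fun x => ?_)
    · exact congrArg Prod.fst (LinearEquiv.congr_fun h (x, 0))
    · exact congrArg Prod.snd (LinearEquiv.congr_fun h (0, x))
  exact (orderOf_injective _ hinj (e, e')).trans (Prod.orderOf_mk)

variable [Finite F] [FiniteDimensional F V] [FiniteDimensional F W]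

theorem exists_orderOf_prod {B : V →ₛₗ[σ] V →ₗ[F] F} {C : W →ₛₗ[σ] W →ₗ[F] F} (hB : Herm.IsHerm B)
    (hC : Herm.IsHerm C) {q d : ℕ} (hσq : ∀ x, σ x = x ^ q) (hd : finrank F V + finrank F W = d)
    (e : V ≃ₗ[F] V) (he : ∀ x y, B (e x) (e y) = B x y) (e' : W ≃ₗ[F] W)
    (he' : ∀ x y, C (e' x) (e' y) = C x y) {w : W} (hw : w ≠ 0) (hew : e' w = w) :
    ∃ g : Cfsg.GU d F q, orderOf (QuotientGroup.mk g : Cfsg.GU d F q ⧸ Subgroup.center (Cfsg.GU d F q)) =
      (orderOf e).lcm (orderOf e') := by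
  rw [← orderOf_prodCongr]
  refine exists_orderOf_eq (prodForm_isHerm hB hC) hσq (Module.finrank_prod.trans hd) (e.prodCongr e')
    (fun x y => by simp [prodForm_apply, he, he']) (v := (0, w)) (by simp [hw]) (by simp [hew])

end Prod

end Cfsg.Agent.Classical.PGUOrder
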