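import Cfsg.Prelude.Def_LieClassical
import Cfsg.Agent.Classical.PGUOrder.Orbit

/-!
Upper bound for element orders of the general unitary group modulo its centre.
-/

set_option autoImplicit false

namespace Cfsg.Agent.Classical.PGUOrder

open Polynomial Matrix
open scoped Ring

theorem reverse_X_sub_C {K : Type*} [Field K] {r : K} (hr : r ≠ 0) :
    (X - C r).reverse = C (-r) * (X - C r⁻¹) := by
  rw [Polynomial.reverse, natDegree_X_sub_C, reflect_sub, reflect_C, pow_one, mul_sub, ← C_mul,
    neg_mul, mul_inv_cancel₀ hr]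
  have : reflect 1 (X : K[X]) = 1 := by
    ext i
    rw [coeff_reflect, Polynomial.coeff_X, Polynomial.coeff_one]
    rcases i with _ | _ | i <;> simp [← Polynomial.revAtFun_eq, Polynomial.revAtFun]
  rw [this]
  simp only [map_neg, map_one, neg_mul, sub_neg_eq_add]
  ring

theorem reverse_prod_roots {K : Type*} [Field K] (R : Multiset K) (h0 : (0 : K) ∉ R) :
    (R.map fun r => X - C r).prod.reverse =
      C (R.map fun r => -r).prod * ((R.map fun r => r⁻¹).map fun r => X - C r).prod := by
  induction R using Multiset.induction_on with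
  | empty => simpa using Polynomial.reverse_C (1 : K)
  | cons a R ih =>
    simp only [Multiset.mem_cons, not_or] at h0
    simp only [Multiset.map_cons, Multiset.prod_cons]
    rw [reverse_mul_of_domain, ih h0.2, reverse_X_sub_C (Ne.symm h0.1), map_mul]
    ring

theorem roots_charpoly_inv {K : Type*} [Field K] [IsAlgClosed K] {n : Type*} [Fintype n] [DecidableEq n]
    (A : Matrix n n K) (h : IsUnit A) :
    (0 : K) ∉ A.charpoly.roots ∧ A⁻¹.charpoly.roots = A.charpoly.roots.map fun r => r⁻¹ := by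
  have h0 : (0 : K) ∉ A.charpoly.roots := by
    rw [mem_roots (charpoly_monic A).ne_zero]
    intro hr
    have hdet := Matrix.det_eq_sign_charpoly_coeff A
    rw [coeff_zero_eq_eval_zero, hr.eq_zero, mul_zero] at hdet
    exact ((Matrix.isUnit_iff_isUnit_det A).1 h).ne_zero hdet
  refine ⟨h0, ?_⟩
  have hprod := (IsAlgClosed.splits A.charpoly).eq_prod_roots_of_monic (charpoly_monic A)
  have hd : IsUnit A.det := (Matrix.isUnit_iff_isUnit_det A).1 h
  have hc : ((-1 : K[X]) ^ Fintype.card n * C A.det⁻¹ʳ) * C ((A.charpoly.roots.map fun r => -r).prod) =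
      C ((-1 : K) ^ Fintype.card n * A.det⁻¹ * (A.charpoly.roots.map fun r => -r).prod) := by
    simp [Ring.inverse_eq_inv']
  rw [Matrix.charpoly_inv A h, ← reverse_charpoly]
  conv_lhs => rw [hprod, reverse_prod_roots _ h0, ← mul_assoc, hc]
  rw [roots_C_mul, roots_multiset_prod_X_sub_C]
  refine mul_ne_zero (mul_ne_zero (pow_ne_zero _ (neg_ne_zero.2 one_ne_zero)) (inv_ne_zero hd.ne_zero)) ?_
  refine Multiset.prod_ne_zero ?_
  simpa using h0

/-- An element of a matrix group one of whose powers is scalar has bounded order modulo the centre. -/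
theorem orderOf_mk_le {F : Type*} [Field F] {n : ℕ} (H : Subgroup (GL (Fin n) F)) (g : H) {N : ℕ} (hN : 0 < N)
    (c : F) (h : ((g : GL (Fin n) F) : Matrix (Fin n) (Fin n) F) ^ N = c • (1 : Matrix (Fin n) (Fin n) F)) :
    orderOf (QuotientGroup.mk g : H ⧸ Subgroup.center H) ≤ N := by
  refine Nat.le_of_dvd hN (orderOf_dvd_of_pow_eq_one ?_)
  rw [← QuotientGroup.mk_pow, QuotientGroup.eq_one_iff, Subgroup.mem_center_iff]
  intro k
  refine Subtype.ext (Units.ext ?_)
  simp only [Subgroup.coe_mul, SubmonoidClass.coe_pow, Units.val_mul, Units.val_pow_eq_pow_val, h,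
    mul_smul_comm, smul_mul_assoc, one_mul, mul_one]

theorem upper {F : Type*} [Field F] [Fintype F] (p f d : ℕ) (hp : p.Prime) (hf : 1 ≤ f) (q : ℕ)
    (hq : q = p ^ f) (hF : Fintype.card F = q ^ 2) (hd : 3 ≤ d) (h32 : ¬ (d = 3 ∧ q = 2))
    (g : Cfsg.GU d F q) :
    orderOf (QuotientGroup.mk g : Cfsg.GU d F q ⧸ Subgroup.center (Cfsg.GU d F q)) ≤ tgt p f q d := by
  classical
  haveI : Fact p.Prime := ⟨hp⟩
  haveI : CharP F p := by
    obtain ⟨p', hp'⟩ := CharP.exists F
    obtain ⟨k, hpr, hk⟩ := FiniteField.card F p'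
    have : p' = p := by
      have h1 : p' ∣ p ^ (f * 2) := by rw [pow_mul, ← hq, ← hF, hk]; exact dvd_pow_self _ k.ne_zero
      exact (Nat.prime_dvd_prime_iff_eq hpr hp).1 (hpr.dvd_of_dvd_pow h1)
    exact this ▸ hp'
  set K := AlgebraicClosure F
  haveI : CharP K p := charP_of_injective_algebraMap (algebraMap F K).injective p
  set A : Matrix (Fin d) (Fin d) F := ((g : GL (Fin d) F) : Matrix (Fin d) (Fin d) F) with hA
  set B : Matrix (Fin d) (Fin d) K := (algebraMap F K).mapMatrix A with hB
  let φ : K →+* K := iterateFrobenius K p f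
  have hφ : ∀ x, φ x = x ^ q := fun x => by rw [hq]; exact iterateFrobenius_def p f x
  have hgram : ((φ.mapMatrix B)ᵀ) * B = 1 := by
    ext j k
    have h := g.2 (Pi.single k 1) (Pi.single j 1)
    simp only [Units.coeHom_apply, Cfsg.hermForm, Matrix.mulVec_single_one, Matrix.col_apply] at h
    have hr : ∑ i, (Pi.single k 1 : Fin d → F) i * (Pi.single j 1 : Fin d → F) i ^ q = if j = k then 1 else 0 := by
      rw [Finset.sum_eq_single j
        (fun i _ hi => by rw [Pi.single_eq_of_ne hi, zero_pow (by rw [hq]; exact (pow_pos hp.pos f).ne'), mul_zero])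
        (fun hj => absurd (Finset.mem_univ j) hj), Pi.single_eq_same, one_pow, mul_one, Pi.single_apply]
    rw [hr] at h
    simp only [Matrix.mul_apply, Matrix.transpose_apply, RingHom.mapMatrix_apply, Matrix.map_apply, hφ, hB,
      ← map_pow, ← map_mul, ← map_sum]
    rw [Finset.sum_congr rfl fun i _ => mul_comm ((A i j) ^ q) (A i k), h, Matrix.one_apply]
    split_ifs <;> simp_all
  have hBu : IsUnit B := IsUnit.of_mul_eq_one_right _ hgram
  obtain ⟨h0, hinvroots⟩ := roots_charpoly_inv B hBu
  rw [Matrix.inv_eq_left_inv hgram, Matrix.charpoly_transpose, RingHom.mapMatrix_apply, Matrix.charpoly_map,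
    (IsAlgClosed.splits B.charpoly).roots_map_of_injective φ.injective] at hinvroots
  set R := B.charpoly.roots with hR
  have hsig : sig (K := K) q = fun x => (φ x)⁻¹ := by
    funext x; rw [sig, hφ, inv_pow]
  have hinj : Function.Injective (sig (K := K) q) := by
    rw [hsig]; exact inv_injective.comp φ.injective
  have hRmap : R.map (sig q) = R := by
    have := congrArg (Multiset.map fun r : K => r⁻¹) hinvroots
    rw [Multiset.map_map, Multiset.map_map] at this
    rw [hsig]
    calc R.map (fun x => (φ x)⁻¹) = R.map ((fun r : K => r⁻¹) ∘ fun r => r⁻¹) := this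
      _ = R := by simp
  have hcard : R.card = d := by
    rw [hR, ← (IsAlgClosed.splits B.charpoly).natDegree_eq_card_roots, Matrix.charpoly_natDegree_eq_dim,
      Fintype.card_fin]
  obtain ⟨N, M, c, hN, hc, hM, hle⟩ := exists_exponent hp hf hq hd h32 hinj R h0 hRmap hcard
  refine le_trans ?_ hle
  set Q : K[X] := (X ^ N - C c) ^ M with hQ
  have hdvd : B.charpoly ∣ Q := by
    conv_lhs => rw [(IsAlgClosed.splits B.charpoly).eq_prod_roots_of_monic (charpoly_monic B)]
    rw [← hR, Finset.prod_multiset_map_count]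
    refine Finset.prod_dvd_of_coprime (fun a _ b _ hab => ?_) fun a ha => ?_
    · exact ((isCoprime_X_sub_C_of_isUnit_sub (sub_ne_zero.2 hab).isUnit).pow)
    · refine (pow_dvd_pow _ (hM a)).trans (pow_dvd_pow_of_dvd ?_ M)
      rw [dvd_iff_isRoot, IsRoot, eval_sub, eval_pow, eval_X, eval_C, hc a (Multiset.mem_toFinset.1 ha), sub_self]
  have hQ0 : (B ^ N - c • (1 : Matrix (Fin d) (Fin d) K)) ^ M = 0 := by
    obtain ⟨T, hT⟩ := hdvd
    have := congrArg (aeval B) hT
    rw [map_mul, Matrix.aeval_self_charpoly, zero_mul, hQ, map_pow, map_sub, map_pow, aeval_X, aeval_C,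
      Algebra.algebraMap_eq_smul_one] at this
    exact this
  have hpow : (B ^ N - c • (1 : Matrix (Fin d) (Fin d) K)) ^ p ^ Nat.clog p M = 0 :=
    pow_eq_zero_of_le (Nat.le_pow_clog hp.one_lt M) hQ0
  haveI : Nonempty (Fin d) := ⟨⟨0, by omega⟩⟩
  rw [sub_pow_char_pow_of_commute _ _ (Commute.smul_right (Commute.one_right _) c), sub_eq_zero, _root_.smul_pow,
    one_pow, ← pow_mul, hB, ← map_pow, RingHom.mapMatrix_apply] at hpow
  refine orderOf_mk_le (Cfsg.GU d F q) g (Nat.mul_pos hN (pow_pos hp.pos _))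
    ((A ^ (N * p ^ Nat.clog p M)) ⟨0, by omega⟩ ⟨0, by omega⟩) ?_
  ext i j
  refine (algebraMap F K).injective ?_
  have hij := congrFun (congrFun hpow i) j
  have h00 := congrFun (congrFun hpow ⟨0, by omega⟩) ⟨0, by omega⟩
  simp only [Matrix.map_apply, Matrix.smul_apply, Matrix.one_apply, smul_eq_mul] at hij h00 ⊢
  rw [← hA, map_mul, hij, h00]
  split_ifs <;> simp

end Cfsg.Agent.Classical.PGUOrder
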